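import Mathlib
import Cfsg.Agent.Prune
set_option linter.all false
prune_inst 0x7f00000000000000000000000000000000000000000000000000000000000000000000000000000000000000000000000000000000000000000000000000000000000000000000000000000000000000003fffffffffffffffffffffffffffbeffbdffffffff
open scoped Cfsg.Agent.FastGrp

/-!
# Primes whose square divides a factored number; Sylow subgroups of order at most `p`
-/

set_option autoImplicit false

namespace Cfsg.Agent.H468

/-- If `p ^ 2` divides `∏ q ^ e` over distinct primes `q`, then `p` is one of the `q` with `2 ≤ e`. -/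
theorem mem_of_sq_dvd {p : ℕ} (hp : p.Prime) : ∀ (l : List (ℕ × ℕ)),
    (∀ x ∈ l, x.1.Prime) → (l.map Prod.fst).Nodup → p ^ 2 ∣ (l.map fun x => x.1 ^ x.2).prod →
      ∃ x ∈ l, x.1 = p ∧ 2 ≤ x.2
  | [], _, _, h => by
    simp only [List.map_nil, List.prod_nil] at h
    have h1 := Nat.dvd_one.mp h
    have h2 : p = 1 := by
      rcases Nat.pow_eq_one.mp h1 with h | h
      · exact h
      · omega
    exact absurd h2 hp.one_lt.ne'
  | x :: l, hl, hn, h => by
    simp only [List.map_cons, List.nodup_cons] at hn
    have hx : x.1.Prime := hl x (by simp)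
    have hl' : ∀ y ∈ l, y.1.Prime := fun y hy => hl y (by simp [hy])
    by_cases hpx : x.1 = p
    · by_cases h2 : 2 ≤ x.2
      · exact ⟨x, by simp, hpx, h2⟩
      · exfalso
        simp only [List.map_cons, List.prod_cons] at h
        have h3 : p ∣ (l.map fun x => x.1 ^ x.2).prod := by
          have h4 : p ^ 2 ∣ p * (l.map fun x => x.1 ^ x.2).prod := by
            refine h.trans (mul_dvd_mul_right ?_ _)
            rw [hpx]
            calc p ^ x.2 ∣ p ^ 1 := pow_dvd_pow p (by omega)
              _ = p := pow_one p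
          rw [pow_two] at h4
          exact Nat.dvd_of_mul_dvd_mul_left hp.pos h4
        have h5 : ∃ y ∈ l, y.1 = p := by
          rw [hp.prime.dvd_prod_iff] at h3
          obtain ⟨a, ha, hpa⟩ := h3
          rw [List.mem_map] at ha
          obtain ⟨y, hy, rfl⟩ := ha
          exact ⟨y, hy, ((Nat.prime_dvd_prime_iff_eq hp (hl' y hy)).mp (hp.dvd_of_dvd_pow hpa)).symm⟩
        obtain ⟨y, hy, hyp⟩ := h5
        apply hn.1
        rw [hpx, ← hyp]
        exact List.mem_map.mpr ⟨y, hy, rfl⟩
    · simp only [List.map_cons, List.prod_cons] at h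
      have hc : Nat.Coprime (p ^ 2) (x.1 ^ x.2) :=
        Nat.Coprime.pow _ _ ((Nat.coprime_primes hp hx).mpr (Ne.symm hpx))
      obtain ⟨y, hy, h1, h2⟩ := mem_of_sq_dvd hp l hl' hn.2 (hc.dvd_of_dvd_mul_left h)
      exact ⟨y, by simp [hy], h1, h2⟩

/-- Sylow `p`-subgroups are cyclic if `p ^ 2` does not divide the order. -/
theorem isCyclic_of_not_sq {G : Type*} [Group G] [Finite G] {p : ℕ} [hp : Fact p.Prime]
    (h : ¬ p ^ 2 ∣ Nat.card G) (P : Sylow p G) : IsCyclic (P : Subgroup G) := by
  obtain ⟨n, hn⟩ := IsPGroup.iff_card.mp P.isPGroup'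
  have h1 : p ^ n ∣ Nat.card G := by rw [← hn]; exact (P : Subgroup G).card_subgroup_dvd_card
  rcases Nat.lt_or_ge n 2 with h2 | h2
  · have h3 : n = 0 ∨ n = 1 := by omega
    rcases h3 with rfl | rfl
    · rw [pow_zero] at hn
      have : Subsingleton (P : Subgroup G) := (Nat.card_eq_one_iff_unique.mp hn).1
      infer_instance
    · rw [pow_one] at hn
      exact isCyclic_of_prime_card hn
  · exact absurd ((pow_dvd_pow p h2).trans h1) h

end Cfsg.Agent.H468
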