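import Cfsg.Agent.H468.RowBase
import Cfsg.Agent.Mrg.Omega.Lie.PairRee_m3
import Cfsg.Agent.TitsK.ParC_m3
import Cfsg.Agent.Omega.TwoF.RowM12_m3
import Cfsg.Agent.H403.TitsSixteen
import Cfsg.Agent.FastGrp
import Cfsg.Agent.Prune
set_option linter.all false
prune_inst 0x7f00000000000000000000000000000000000000000000000000000000000000000000000000000000000000000000000000000000000000000000000000000000000000000000000000000000000000003fffffffffffffffffffffffffffbeffbdffffffff
open scoped Cfsg.Agent.FastGrp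

/-!
# `NB 3` and `NB 5` fail in the Tits group
-/

set_option autoImplicit false

namespace Cfsg.Agent.H468

open Subgroup Cfsg

/-- An elementary form: `V` a subgroup with `C(V)` an `r`-group containing `V`, and an element `x`
of order `p` modulo `C(V)` normalising `V`. -/
theorem not_of_norm {G : Type*} [Group G] [Finite G] {p r : ℕ} [hp : Fact p.Prime] (hpr : p ≠ r)
    (hr : r.Prime) (V : Subgroup G) (hV : ∀ a ∈ V, ∀ b ∈ V, a * b = b * a)
    (hC : IsPGroup r (centralizer (V : Set G))) (hN : normalizer (V : Set G) ≠ ⊤)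
    (x : G) (hx : x ∈ normalizer (V : Set G)) (hxC : x ∉ centralizer (V : Set G))
    (hxp : x ^ p ∈ centralizer (V : Set G)) : ¬ NB p G := by
  have hle : centralizer (V : Set G) ≤ normalizer (V : Set G) := Subgroup.centralizer_le_normalizer _
  refine not_of_cent (p := p) (r := r) hpr hr (K := normalizer (V : Set G))
    (R := centralizer (V : Set G)) hN ?_ hle ?_ hC ?_
  · by_contra hd
    apply hxC
    have h1 : Nat.Coprime (orderOf x) p := by
      rw [Nat.coprime_comm, hp.out.coprime_iff_not_dvd]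
      intro h
      apply hd
      refine h.trans ?_
      have h2 : orderOf (⟨x, hx⟩ : normalizer (V : Set G)) = orderOf x := Subgroup.orderOf_mk x hx
      rw [← h2]
      exact orderOf_dvd_natCard _
    obtain ⟨m, hm⟩ := exists_pow_eq_self_of_coprime (x := x) (n := p) h1.symm
    rw [← hm]
    exact pow_mem hxp m
  · intro k hk t ht
    rw [mem_centralizer_iff] at ht ⊢
    intro v hv
    have h1 : k⁻¹ * v * k ∈ V := by
      have h2 := (mem_normalizer_iff.mp ((normalizer (V : Set G)).inv_mem hk) v).mp hv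
      rwa [inv_inv] at h2
    have h2 := ht _ h1
    calc v * (k * t * k⁻¹) = k * ((k⁻¹ * v * k) * t) * k⁻¹ := by group
      _ = k * (t * (k⁻¹ * v * k)) * k⁻¹ := by rw [h2]
      _ = _ := by group
  · intro c _ hc
    rw [mem_centralizer_iff]
    intro v hv
    refine (hc v ?_).symm
    rw [mem_centralizer_iff]
    intro w hw
    exact hV w hw v hv

/-- The same inside a subgroup `T` of a group `L`. -/
theorem not_of_norm_sub {L : Type*} [Group L] {T V U : Subgroup L} [Finite T] {p r : ℕ}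
    [hp : Fact p.Prime] (hpr : p ≠ r)
    (hr : r.Prime) (hVT : V ≤ T) (hV : ∀ a ∈ V, ∀ b ∈ V, a * b = b * a)
    (hU : IsPGroup r U) (hC : ∀ g ∈ T, (∀ v ∈ V, g * v = v * g) → g ∈ U)
    (hN : ∃ g ∈ T, ∃ v ∈ V, g * v * g⁻¹ ∉ V)
    {x : L} (hxT : x ∈ T) (hx : ∀ v ∈ V, x * v * x⁻¹ ∈ V) (hx' : ∀ v ∈ V, x⁻¹ * v * x ∈ V)
    (hxC : ∃ v ∈ V, x * v ≠ v * x)
    (hxp : ∀ v ∈ V, x ^ p * v = v * x ^ p) : ¬ NB p T := by
  have hmemV : ∀ a : T, a ∈ ((V.subgroupOf T : Subgroup T) : Set T) ↔ (a : L) ∈ V := fun a => Iff.rfl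
  have hcen : ∀ g : T, g ∈ centralizer ((V.subgroupOf T : Subgroup T) : Set T) ↔
      ∀ v ∈ V, (g : L) * v = v * g := by
    intro g
    rw [mem_centralizer_iff]
    constructor
    · intro h v hv
      exact (congrArg Subtype.val (h ⟨v, hVT hv⟩ hv)).symm
    · intro h v hv
      exact Subtype.ext (h v hv).symm
  refine not_of_norm hpr hr (V.subgroupOf T) ?_ ?_ ?_ ⟨x, hxT⟩ ?_ ?_ ?_
  · intro a ha b hb
    exact Subtype.ext (hV a ha b hb)
  · rintro ⟨g, hg⟩
    have h1 : (g : L) ∈ U := hC g g.2 ((hcen g).mp hg)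
    obtain ⟨k, hk⟩ := hU ⟨g, h1⟩
    refine ⟨k, Subtype.ext (Subtype.ext ?_)⟩
    have h2 : (g : L) ^ r ^ k = 1 := congrArg Subtype.val hk
    exact h2
  · intro h
    obtain ⟨g, hg, v, hv, hgv⟩ := hN
    have h1 : (⟨g, hg⟩ : T) ∈ normalizer ((V.subgroupOf T : Subgroup T) : Set T) := by
      rw [h]; exact mem_top _
    exact hgv ((mem_normalizer_iff.mp h1 ⟨v, hVT hv⟩).mp hv)
  · rw [mem_normalizer_iff]
    intro a
    constructor
    · intro ha
      exact hx a ha
    · intro ha
      have ha' : x * (a : L) * x⁻¹ ∈ V := ha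
      have h1 := hx' _ ha'
      have h2 : x⁻¹ * (x * (a : L) * x⁻¹) * x = a := by group
      rw [h2] at h1
      exact h1
  · intro h
    obtain ⟨v, hv, hxv⟩ := hxC
    exact hxv ((hcen _).mp h v hv)
  · rw [hcen]
    intro v hv
    exact hxp v hv

section tits

open Cfsg.Agent.TitsK

theorem comm_of_conj {G : Type*} [Group G] {g a : G} (h : g⁻¹ * a * g = a) : g * a = a * g := by
  have h1 : g * (g⁻¹ * a * g) = g * a := by rw [h]
  rw [← h1]
  group

theorem nb_tt_three [Finite TT] : ¬ NB 3 TT := by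
  obtain ⟨g, hg, h1, h2⟩ := line
  rw [qf_zero] at h1 h2
  have h3 : g⁻¹ * (z * z1) * g = z := by
    have e : g⁻¹ * (z * z1) * g = (g⁻¹ * z * g) * (g⁻¹ * z1 * g) := by group
    have hzz : z * z1 = z1 * z := by rw [z_mul_z1, z1_mul_z]
    have hz1 : z1 * z1 = 1 := by
      have e2 : z1 * z1 = g⁻¹ * (z * z) * g := by rw [← h1]; group
      rw [e2, z_sq]
      group
    rw [e, h1, h2, hzz, ← mul_assoc, hz1, one_mul]
  have hz1ne : z ≠ z1 := by
    intro h
    have h4 : z * z = z := by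
      rw [← h] at h1 h2
      rw [← h2, h1]
    exact z_ne (mul_eq_left.mp h4)
  have hinv : ∀ v ∈ V4, g⁻¹ * v * g ∈ V4 := by
    intro v hv
    rcases mem_V4_iff.1 hv with rfl | rfl | rfl | rfl
    · rw [mul_one, inv_mul_cancel]; exact V4.one_mem
    · rw [h1]; exact z1_mem_V4
    · rw [h2]; exact V4.mul_mem z_mem_V4 z1_mem_V4
    · rw [h3]; exact z_mem_V4
  have hcube : ∀ v ∈ V4, (g ^ 3)⁻¹ * v * g ^ 3 = v := by
    have e : ∀ v, (g ^ 3)⁻¹ * v * g ^ 3 = g⁻¹ * (g⁻¹ * (g⁻¹ * v * g) * g) * g := by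
      intro v
      rw [pow_three]
      simp only [mul_inv_rev, mul_assoc]
    intro v hv
    rw [e]
    rcases mem_V4_iff.1 hv with rfl | rfl | rfl | rfl
    · group
    · rw [h1, h2, h3]
    · rw [h2, h3, h1]
    · rw [h3, h1, h2]
  refine not_of_norm_sub (L := _) (T := TT) (V := V4) (U := UT) (r := 2) (by norm_num)
    Nat.prime_two V4_le_TT ?_ isPGroup_UT ?_ ?_ (x := g) hg ?_ hinv ?_ ?_
  · intro a ha b hb
    have hzz : z * z1 = z1 * z := by rw [z_mul_z1, z1_mul_z]
    have hab : ∀ a b, a ∈ V4 → b ∈ V4 → a * b = b * a := by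
      intro a b ha hb
      have key : ∀ c ∈ V4, z * c = c * z ∧ z1 * c = c * z1 := by
        intro c hc
        rcases mem_V4_iff.1 hc with rfl | rfl | rfl | rfl
        · simp
        · exact ⟨rfl, hzz.symm⟩
        · exact ⟨hzz, rfl⟩
        · constructor
          · rw [hzz, ← mul_assoc, hzz]
          · rw [← mul_assoc, ← hzz, mul_assoc]
      rcases mem_V4_iff.1 ha with rfl | rfl | rfl | rfl
      · simp
      · exact (key b hb).1
      · exact (key b hb).2
      · rw [mul_assoc, (key b hb).2, ← mul_assoc, (key b hb).1, mul_assoc]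
    exact hab a b ha hb
  · intro c hc h
    refine cent_V_le (TT_le hc) ?_ ?_
    · rw [h z z_mem_V4]; group
    · rw [h z1 z1_mem_V4]; group
  · exact ⟨nb, overIn.nb_mem, z1, z1_mem_V4, overIn.nV⟩
  · have key : ∀ a b : FourTwo.Base.LL, g⁻¹ * a * g = b → g * b * g⁻¹ = a := by
      intro a b hab
      rw [← hab]
      group
    have e1 : g * z * g⁻¹ = z * z1 := key _ _ h3
    have e2 : g * z1 * g⁻¹ = z := key _ _ h1
    have e3 : g * (z * z1) * g⁻¹ = z1 := key _ _ h2
    intro v hv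
    rcases mem_V4_iff.1 hv with rfl | rfl | rfl | rfl
    · rw [mul_one, mul_inv_cancel]; exact V4.one_mem
    · rw [e1]; exact V4.mul_mem z_mem_V4 z1_mem_V4
    · rw [e2]; exact z_mem_V4
    · rw [e3]; exact z1_mem_V4
  · refine ⟨z, z_mem_V4, ?_⟩
    intro h
    apply hz1ne
    rw [← h1, mul_assoc, ← h]
    group
  · intro v hv
    exact comm_of_conj (hcube v hv)

theorem nb_tt_five [Finite TT] [Fact (Nat.Prime 5)] : ¬ NB 5 TT := by
  have hxf : ∀ n : ℕ, ∀ a ∈ AA, xf ^ n * a * (xf ^ n)⁻¹ ∈ AA := by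
    intro n
    induction n with
    | zero => intro a ha; simpa using ha
    | succ n ih =>
      intro a ha
      have e : xf ^ (n + 1) * a * (xf ^ (n + 1))⁻¹ = xf * (xf ^ n * a * (xf ^ n)⁻¹) * xf⁻¹ := by
        rw [pow_succ']
        group
      rw [e]
      exact xf_conj_AA (ih a ha)
  refine not_of_norm_sub (T := TT) (V := AA) (U := AA) (r := 2) (by norm_num)
    Nat.prime_two AA_le_TT (fun a ha b hb => AA_comm ha hb) ?_ (fun g hg h => cent_AA' hg h) ?_
    (x := xf) xf_mem_TT (fun a ha => xf_conj_AA ha) ?_ ?_ ?_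
  · exact IsPGroup.of_card (n := 5) card_AA
  · by_contra hcon
    push Not at hcon
    have h1 := overIn.norm_A na (TT_le na_mem_TT) (fun a ha => hcon na na_mem_TT a ha)
    have h2 : na * z * na⁻¹ = z := h1
    rw [na_conj_z] at h2
    have h3 := overIn.nV
    apply h3
    have h4 : nb * z1 * nb⁻¹ = nb * z * nb⁻¹ := by rw [h2]
    change nb * z1 * nb⁻¹ ∈ V4
    rw [h4, nb_conj_z]
    exact z_mem_V4
  · intro a ha
    have h1 := hxf 4 a ha
    have e : xf ^ 4 = xf⁻¹ := by
      rw [eq_inv_iff_mul_eq_one, ← pow_succ, xf_pow5]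
    rw [e, inv_inv] at h1
    exact h1
  · by_contra hcon
    push Not at hcon
    have h1 : xf ∈ AA := cent_AA' xf_mem_TT hcon
    have h2 := AA_sq h1
    apply xf_ne_one
    have h3 : xf ^ 5 = xf * (xf * xf) * (xf * xf) := by
      rw [pow_succ, pow_succ, pow_succ, pow_succ, pow_one]
      group
    rw [← xf_pow5, h3, h2, mul_one, mul_one]
  · intro v _
    rw [xf_pow5, one_mul, mul_one]

theorem nb_tits_aux {L : Type*} [Group L] (T : Subgroup L) {G : Type*} [Group G] [Finite G] {p : ℕ}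
    (h : Finite T → ¬ NB p T) (he : Nonempty (G ≃* T)) : ¬ NB p G := by
  obtain ⟨e⟩ := he
  intro hNB
  exact h (Finite.of_equiv G e.toEquiv) (hNB.congr e)

theorem nb_tits {G : Type*} [Group G] [Finite G] {p : ℕ} [Fact p.Prime] (h : Lie.IsoTits G)
    (hp : p = 3 ∨ p = 5) : ¬ NB p G := by
  intro hNB
  refine nb_tits_aux TT ?_ (CpAutTits.Row.exists_equiv h) hNB
  intro hf
  rcases hp with rfl | rfl
  · exact nb_tt_three
  · exact nb_tt_five

end tits

end Cfsg.Agent.H468
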